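import Cfsg.Agent.FusionAux.TateTransfer
import Mathlib.GroupTheory.Index

/-!
A Thompson transfer lemma for saturated fusion systems over 2-groups.
-/

set_option autoImplicit false

open Cfsg Cfsg.FusionSystem Cfsg.Agent.FusionSys Cfsg.Agent.FusionBiset

namespace Cfsg.Agent.FusionSub.ThompsonTransfer

universe u

variable {Ω : Type u} [Group Ω] {S : Subgroup Ω}

theorem isConjElt_trans {F : FusionSystem S} {x y z : Ω} (h : F.IsConjElt x y)
    (h' : F.IsConjElt y z) : F.IsConjElt x z := by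
  obtain ⟨φ, hφ, rfl⟩ := h
  obtain ⟨ψ, hψ, rfl⟩ := h'
  have hm : ∀ w : Subgroup.zpowers x, φ w ∈ Subgroup.zpowers (φ ⟨x, Subgroup.mem_zpowers x⟩) := by
    rintro ⟨w, hw⟩
    obtain ⟨k, rfl⟩ := Subgroup.mem_zpowers_iff.1 hw
    exact ⟨k, (map_zpow φ ⟨x, Subgroup.mem_zpowers x⟩ k).symm⟩
  exact ⟨_, F.comp_mem hφ hψ hm, congrArg ψ (Subtype.ext rfl)⟩

/-- A hom on a set of prime-order source gives a conjugate element and its converse. -/
theorem isConjElt_of_mem {F : FusionSystem S} {P : Subgroup Ω} {φ : P →* Ω} (h : φ ∈ F.Hom P)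
    (x : P) : F.IsConjElt x (φ x) ∧ F.IsConjElt (φ x) x := by
  constructor
  · exact ⟨_, restr_mem F (Subgroup.zpowers_le.2 x.2) h, rfl⟩
  · obtain ⟨ψ, hψ, he⟩ := F.inv_mem h
    exact ⟨_, restr_mem F (Subgroup.zpowers_le.2 (show φ x ∈ φ.range from ⟨x, rfl⟩)) hψ, he x⟩

theorem normalizerIn_zpowers {x : Ω} (hx : x ∈ S) (hx2 : orderOf x = 2) :
    normalizerIn S (Subgroup.zpowers x) =
      (Subgroup.centralizer ({⟨x, hx⟩} : Set S)).map S.subtype := by
  have hxx : x * x = 1 := by rw [← pow_two, ← hx2, pow_orderOf_eq_one]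
  ext g
  rw [mem_normalizerIn, Subgroup.mem_map]
  constructor
  · rintro ⟨hg, hn⟩
    refine ⟨⟨g, hg⟩, Subgroup.mem_centralizer_singleton_iff.2 (Subtype.ext ?_), rfl⟩
    obtain ⟨k, hk⟩ := Subgroup.mem_zpowers_iff.1
      ((Subgroup.mem_normalizer_iff.1 hn x).1 (Subgroup.mem_zpowers x))
    show g * x = x * g
    rcases Int.even_or_odd k with ⟨m, rfl⟩ | ⟨m, rfl⟩
    · rw [← two_mul, zpow_mul, zpow_two, hxx, one_zpow] at hk
      have h1 : x = g⁻¹ * (g * x * g⁻¹) * g := by group
      rw [← hk, mul_one, inv_mul_cancel] at h1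
      rw [h1, orderOf_one] at hx2
      omega
    · rw [zpow_add, zpow_one, zpow_mul, zpow_two, hxx, one_zpow, one_mul] at hk
      exact (eq_mul_inv_iff_mul_eq.1 hk).symm
  · rintro ⟨s, hs, rfl⟩
    refine ⟨s.2, Subgroup.centralizer_le_normalizer _ (Subgroup.mem_centralizer_iff.2 fun w hw => ?_)⟩
    obtain ⟨k, rfl⟩ := Subgroup.mem_zpowers_iff.1 hw
    have h1 : (s : Ω) * x = x * s :=
      congrArg Subtype.val (Subgroup.mem_centralizer_singleton_iff.1 hs)
    exact (Commute.zpow_left (show Commute x (s : Ω) from h1.symm) k).eq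

/-- The transfer of a sign character along a characteristic biset. -/
theorem sign_transfer [Finite S] (hS : IsPGroup 2 S) {F : FusionSystem S} (hF : F.IsSaturated 2)
    (π : S →* ℤˣ) {i : S} (hi : i * i = 1)
    (hj : ∀ j : S, F.IsConjElt i j → π j = 1 →
      Nat.card (Subgroup.centralizer ({j} : Set S)) < Nat.card (Subgroup.centralizer ({i} : Set S))) :
    ∃ f : S →* ℤˣ, (∀ (P : Subgroup Ω) (φ : P →* Ω) (h : φ ∈ F.Hom P) (x : P),
      f ⟨φ x, map_mem_S F h x⟩ = f ⟨x, le_S F h x.2⟩) ∧ f i ≠ 1 := by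
  classical
  haveI : Fact (Nat.Prime 2) := ⟨Nat.prime_two⟩
  obtain ⟨c, hc, -, hst, hn⟩ := exists_characteristic hS hF
  letI : Fintype (RightOrbits c) := Fintype.ofFinite _
  have hodd : ¬ 2 ∣ Fintype.card (RightOrbits c) := fun h => hn (by
    rw [card_rightOrbits hc, Nat.card_eq_fintype_card (α := RightOrbits c)]
    exact mul_dvd_mul_right h _)
  choose rep hrep using rmk_surjective c
  have hex : ∀ (g : parkGroup c) (q : RightOrbits c), ∃ s : S,
      ((1 : S), s⁻¹) • rep (g • q) = (g : Equiv.Perm (Space c)) (rep q) := by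
    intro g q
    have h : rmk c ((g : Equiv.Perm (Space c)) (rep q)) = rmk c (rep (g • q)) := by
      rw [hrep, ← smul_rmk, hrep]
    obtain ⟨s, hs⟩ := (rmk_eq_iff c).1 h
    exact ⟨s⁻¹, by rw [inv_inv]; exact hs⟩
  choose σ hσ using hex
  have hmul : ∀ (g h : parkGroup c) (q : RightOrbits c), σ (g * h) q = σ g (h • q) * σ h q := by
    intro g h q
    apply inv_injective
    refine right_cancel hc (y := rep ((g * h) • q)) ((hσ (g * h) q).trans ?_)
    rw [Subgroup.coe_mul, Equiv.Perm.mul_apply, ← hσ h q, g.2 (σ h q)⁻¹, ← hσ g (h • q), smul_smul,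
      Prod.mk_mul_mk, one_mul, mul_inv_rev, mul_smul]
  let f₀ : parkGroup c →* ℤˣ := MonoidHom.mk' (fun g => ∏ q, π (σ g q)) fun g h => by
    simp only [hmul, map_mul, Finset.prod_mul_distrib]
    congr 1
    exact Equiv.prod_comp (MulAction.toPerm h) fun q => π (σ g q)
  refine ⟨f₀.comp (parkHom c), fun P φ hφ x => ?_, ?_⟩
  · obtain ⟨g, hg⟩ := exists_park_conj hc hst hφ
    simp only [MonoidHom.comp_apply, hg x, map_mul, map_inv]
    exact mul_inv_cancel_comm _ _
  set z := parkHom c i with hz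
  have hzz : z * z = 1 := by rw [hz, ← map_mul, hi, map_one]
  have hone : ∀ q, σ 1 q = 1 := fun q => by
    have h := hσ 1 q
    rw [one_smul] at h
    exact inv_eq_one.1 (right_free hc h)
  -- the value of the section at a fixed orbit
  have hfix : ∀ q, z • q = q → (i, σ z q) • rep q = rep q := fun q hq => by
    have h := hσ z q
    rw [hq] at h
    change _ = (i, (1 : S)) • rep q at h
    have h' := congrArg (fun w => ((1 : S), σ z q) • w) h
    simp only [smul_smul, Prod.mk_mul_mk, one_mul, mul_one, mul_inv_cancel] at h'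
    rw [← h']
    exact one_smul _ _
  have hconj : ∀ q, z • q = q → F.IsConjElt i (σ z q) := fun q hq => by
    obtain ⟨P, φ, hφ, he⟩ := FusionAux.isTw_stabilizer hc (rep q)
    obtain ⟨x, h1, h2⟩ := mem_twd.1 (he ▸ MulAction.mem_stabilizer_iff.2 (hfix q hq))
    have := (isConjElt_of_mem hφ x).2
    rwa [h1, h2] at this
  let bad : Finset (RightOrbits c) := Finset.univ.filter fun q => z • q = q ∧ π (σ z q) = 1
  have hbad : ∀ q ∈ bad,
      2 ∣ (bad.filter fun q' => ConjClasses.mk (σ z q') = ConjClasses.mk (σ z q)).card := by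
    intro q₀ hq₀
    obtain ⟨hq₀f, hq₀π⟩ := (Finset.mem_filter.1 hq₀).2
    set j := σ z q₀
    set Z := Subgroup.centralizer ({j} : Set S)
    set Z' := Subgroup.centralizer ({i} : Set S)
    let X : Type _ := {y : Space c // (i, j) • y = y}
    let B := bad.filter fun q' => ConjClasses.mk (σ z q') = ConjClasses.mk j
    have hB : ∀ q : RightOrbits c, q ∈ B ↔ z • q = q ∧ π (σ z q) = 1 ∧ IsConj (σ z q) j := fun q => by
      simp only [B, bad, Finset.mem_filter, Finset.mem_univ, true_and,
        ConjClasses.mk_eq_mk_iff_isConj, and_assoc]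
    have hsB : ∀ q : B, ∃ s : S, s * σ z q * s⁻¹ = j := fun q =>
      isConj_iff.1 ((hB q).1 q.2).2.2
    choose s hs using hsB
    let e : B × Z → X := fun w => ⟨((1 : S), (w.2 : S) * s w.1) • rep w.1, by
      have h1 : (w.2 : S) * j = j * w.2 := Subgroup.mem_centralizer_singleton_iff.1 w.2.2
      have h2 : j * ((w.2 : S) * s w.1) = (w.2 : S) * s w.1 * σ z w.1 := by
        rw [← mul_assoc, ← h1, mul_assoc (w.2 : S)]
        conv_lhs => rw [← hs w.1]
        group
      rw [smul_smul, Prod.mk_mul_mk, mul_one, h2]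
      conv_rhs => rw [← hfix _ ((hB _).1 w.1.2).1]
      rw [smul_smul, Prod.mk_mul_mk, one_mul]⟩
    have he : Function.Bijective e := by
      constructor
      · rintro ⟨q, a⟩ ⟨q', a'⟩ h
        have h' : ((1 : S), (a : S) * s q) • rep q = ((1 : S), (a' : S) * s q') • rep q' :=
          congrArg Subtype.val h
        have hq : q = q' := by
          apply Subtype.ext
          rw [← hrep q, ← hrep q']
          refine (rmk_eq_iff c).2 ⟨((a : S) * s q)⁻¹ * ((a' : S) * s q'), ?_⟩
          have h'' := congrArg (fun w => ((1 : S), ((a : S) * s q)⁻¹) • w) h'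
          simp only [smul_smul, Prod.mk_mul_mk, one_mul, inv_mul_cancel] at h''
          rw [← h'']
          exact one_smul _ _
        subst hq
        have := right_cancel hc h'
        rw [mul_left_inj] at this
        rw [Subtype.ext this]
      · rintro ⟨y, hy⟩
        obtain ⟨t, ht⟩ := (rmk_eq_iff c).1 (hrep (rmk c y)).symm
        have hq : z • rmk c y = rmk c y := by
          rw [smul_rmk]
          show rmk c ((i, (1 : S)) • y) = rmk c y
          refine (rmk_eq_iff c).2 ⟨j⁻¹, ?_⟩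
          conv_lhs => rw [← hy]
          rw [smul_smul, Prod.mk_mul_mk, one_mul, inv_mul_cancel]
        set q := rmk c y
        have hc1 : ((1 : S), j * t) • rep q = ((1 : S), t * σ z q) • rep q := by
          have h1 : (i, j * t) • rep q = y := by
            conv_rhs => rw [← hy, ← ht]
            rw [smul_smul, Prod.mk_mul_mk, mul_one]
          have h2 : (i, t * σ z q) • rep q = y := by
            conv_rhs => rw [← ht, ← hfix q hq]
            rw [smul_smul, Prod.mk_mul_mk, one_mul]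
          have h3 := congrArg (fun w => (i, (1 : S)) • w) (h1.trans h2.symm)
          simpa only [smul_smul, Prod.mk_mul_mk, one_mul, hi] using h3
        have htj : t * σ z q * t⁻¹ = j := by
          rw [← right_cancel hc hc1]
          group
        have hqB : q ∈ B := (hB q).2 ⟨hq, by
          rw [← htj, map_mul, map_mul, map_inv, mul_inv_cancel_comm] at hq₀π
          exact hq₀π, isConj_iff.2 ⟨t, htj⟩⟩
        refine ⟨(⟨q, hqB⟩, ⟨t * (s ⟨q, hqB⟩)⁻¹, Subgroup.mem_centralizer_singleton_iff.2 ?_⟩),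
          Subtype.ext ?_⟩
        · conv_lhs => rw [← hs ⟨q, hqB⟩]
          conv_rhs => rw [← htj]
          group
        · show ((1 : S), t * (s ⟨q, hqB⟩)⁻¹ * s ⟨q, hqB⟩) • rep q = y
          rw [inv_mul_cancel_right]
          exact ht
    have hcardX : Nat.card X = B.card * Nat.card Z := by
      rw [← Nat.card_congr (Equiv.ofBijective e he), Nat.card_prod, Nat.card_eq_fintype_card,
        Fintype.card_coe]
    letI : MulAction Z' X :=
      { smul := fun a y => ⟨((a : S), (1 : S)) • y.1, by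
          have h1 : (a : S) * i = i * a := Subgroup.mem_centralizer_singleton_iff.1 a.2
          conv_rhs => rw [← y.2]
          rw [smul_smul, smul_smul, Prod.mk_mul_mk, Prod.mk_mul_mk, h1, mul_one, one_mul]⟩
        one_smul := fun y => Subtype.ext (one_smul (S × S) y.1)
        mul_smul := fun a b y => Subtype.ext (by
          show ((a : S) * b, (1 : S)) • y.1 = ((a : S), (1 : S)) • ((b : S), (1 : S)) • y.1
          rw [smul_smul, Prod.mk_mul_mk, one_mul]) }
    have hfree : ∀ y : X, MulAction.stabilizer Z' y = ⊥ := fun y => by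
      rw [eq_bot_iff]
      intro a ha
      obtain ⟨P, φ, hφ, he'⟩ := FusionAux.isTw_stabilizer hc y.1
      obtain ⟨x, h1, h2⟩ := mem_twd.1 (he' ▸ MulAction.mem_stabilizer_iff.2
        (show ((a : S), (1 : S)) • y.1 = y.1 from congrArg Subtype.val (MulAction.mem_stabilizer_iff.1 ha)))
      rw [Subgroup.mem_bot]
      have hx : x = 1 := Subtype.ext h2
      rw [hx, map_one] at h1
      exact Subtype.ext (Subtype.ext h1.symm)
    have hdvd : Nat.card Z' ∣ B.card * Nat.card Z := by
      rw [← hcardX, Nat.card_congr (MulAction.selfEquivOrbitsQuotientProd hfree), Nat.card_prod]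
      exact dvd_mul_left _ _
    have hlt : Nat.card Z < Nat.card Z' := hj j (hconj q₀ hq₀f) hq₀π
    obtain ⟨a, ha⟩ := (hS.to_subgroup Z).exists_card_eq
    obtain ⟨b, hb⟩ := (hS.to_subgroup Z').exists_card_eq
    rw [ha, hb] at hdvd
    rw [ha, hb, Nat.pow_lt_pow_iff_right (by norm_num)] at hlt
    obtain ⟨m, hm⟩ := Nat.exists_eq_add_of_lt hlt
    rw [hm, show a + m + 1 = (m + 1) + a by omega, pow_add] at hdvd
    exact (dvd_pow_self 2 (by omega)).trans (Nat.dvd_of_mul_dvd_mul_right (by positivity) hdvd)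
  have heven : 2 ∣ bad.card := by
    rw [Finset.card_eq_sum_card_image (fun q => ConjClasses.mk (σ z q)) bad]
    refine Finset.dvd_sum fun C hC => ?_
    obtain ⟨q, hq, rfl⟩ := Finset.mem_image.1 hC
    exact hbad q hq
  have hmoved : ∏ q ∈ Finset.univ.filter (fun q => ¬ z • q = q), -π (σ z q) = 1 := by
    refine Finset.prod_involution (fun q _ => z • q) (fun q hq => ?_) (fun q hq _ => ?_)
      (fun q hq => ?_) (fun q hq => ?_)
    · rw [neg_mul_neg, mul_comm, ← map_mul, ← hmul, hzz, hone, map_one]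
    · exact (Finset.mem_filter.1 hq).2
    · rw [Finset.mem_filter]
      refine ⟨Finset.mem_univ _, fun h => (Finset.mem_filter.1 hq).2 ?_⟩
      exact (smul_left_cancel_iff z).1 h
    · rw [smul_smul, hzz, one_smul]
  have hfixed : ∏ q ∈ Finset.univ.filter (fun q => z • q = q), -π (σ z q) = 1 := by
    rw [← Finset.prod_filter_mul_prod_filter_not _ (fun q => π (σ z q) = 1)]
    rw [Finset.filter_filter, Finset.filter_filter]
    rw [Finset.prod_congr rfl (g := fun _ => (-1 : ℤˣ)) fun q hq => by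
      rw [(Finset.mem_filter.1 hq).2.2], Finset.prod_const, (even_iff_two_dvd.2 heven).neg_one_pow,
      one_mul]
    refine Finset.prod_eq_one fun q hq => ?_
    rcases Int.units_eq_one_or (π (σ z q)) with h | h
    · exact absurd h (Finset.mem_filter.1 hq).2.2
    · rw [h, neg_neg]
  have hall : ∏ q, -π (σ z q) = 1 := by
    rw [← Finset.prod_filter_mul_prod_filter_not _ (fun q => z • q = q), hfixed, hmoved, one_mul]
  intro h1
  have h2 : ∏ q, π (σ z q) = 1 := h1
  have h3 : ∏ q, -π (σ z q) = (-1) ^ Fintype.card (RightOrbits c) * ∏ q, π (σ z q) := by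
    rw [← Finset.card_univ, ← Finset.prod_const, ← Finset.prod_mul_distrib]
    simp
  rw [hall, h2, mul_one,
    (Nat.not_even_iff_odd.1 fun h => hodd (even_iff_two_dvd.1 h)).neg_one_pow] at h3
  exact absurd h3 (by decide)

/-- An involution whose fully normalized conjugates avoid a maximal subgroup is not hyperfocal. -/
theorem not_mem_hyperfocal [Finite S] (hS : IsPGroup 2 S) {F : FusionSystem S}
    (hF : F.IsSaturated 2) {T : Subgroup Ω} (hTi : (T.subgroupOf S).index = 2) {i : Ω} (hi : i ∈ S)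
    (hi2 : orderOf i = 2)
    (h : ∀ j : Ω, F.IsConjElt i j → F.IsFullyNormalized (Subgroup.zpowers j) → j ∉ T) :
    i ∉ F.hyperfocalSubgroup 2 := by
  classical
  let π : S →* ℤˣ := MonoidHom.mk' (fun x => if x ∈ T.subgroupOf S then 1 else -1) fun a b => by
    rw [Subgroup.mul_mem_iff_of_index_two hTi]
    by_cases ha : a ∈ T.subgroupOf S <;> by_cases hb : b ∈ T.subgroupOf S <;> simp [ha, hb]
  let s : Set S := {j | F.IsConjElt i j}
  have hs : s.Nonempty :=
    ⟨⟨i, hi⟩, ⟨_, subtype_mem F (Subgroup.zpowers_le.2 hi), rfl⟩⟩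
  obtain ⟨i₀, hi₀, hmax⟩ := Set.exists_max_image s
    (fun j => Nat.card (Subgroup.centralizer ({j} : Set S))) (Set.toFinite s) hs
  have hord : ∀ x : Ω, F.IsConjElt i x → orderOf x = 2 := by
    rintro _ ⟨φ, hφ, rfl⟩
    rw [orderOf_injective φ (F.injective_of_mem hφ), Subgroup.orderOf_mk, hi2]
  have hi₀i : F.IsConjElt (i₀ : Ω) i := by
    obtain ⟨φ, hφ, he⟩ := hi₀
    have := (isConjElt_of_mem hφ ⟨i, Subgroup.mem_zpowers i⟩).2
    rwa [he] at this
  have hcard : ∀ x : S, F.IsConjElt i x → Nat.card (normalizerIn S (Subgroup.zpowers (x : Ω))) =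
      Nat.card (Subgroup.centralizer ({x} : Set S)) := fun x hx => by
    rw [normalizerIn_zpowers x.2 (hord _ hx)]
    exact Subgroup.card_map_of_injective S.subtype_injective
  obtain ⟨f, hf, hfi⟩ := sign_transfer hS hF π (i := i₀) (Subtype.ext (by
    rw [Subgroup.coe_mul, ← pow_two, ← hord _ hi₀, pow_orderOf_eq_one]; rfl)) fun j hj hπ => by
    have hij : F.IsConjElt i j := isConjElt_trans hi₀ hj
    refine lt_of_le_of_ne (hmax j hij) fun he => ?_
    have hjT : j ∈ T.subgroupOf S := by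
      by_contra hn
      exact absurd hπ (by simp [π, hn])
    refine h j hij ⟨Subgroup.zpowers_le.2 j.2, fun Q hQ => ?_⟩ hjT
    obtain ⟨φ, hφ, rfl⟩ := hQ
    set w : Subgroup.zpowers (j : Ω) := ⟨j, Subgroup.mem_zpowers _⟩ with hw
    have hr : φ.range = Subgroup.zpowers (φ w) := by
      rw [← MonoidHom.map_zpowers, MonoidHom.range_eq_map]
      congr 1
      refine eq_top_iff.2 ?_ |>.symm
      rintro ⟨v, hv⟩ -
      obtain ⟨k, rfl⟩ := Subgroup.mem_zpowers_iff.1 hv
      exact ⟨k, rfl⟩
    have hx : F.IsConjElt i (φ w) := isConjElt_trans hij (isConjElt_of_mem hφ w).1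
    rw [hr, hcard j hij, hcard ⟨φ w, map_mem_S F hφ w⟩ hx, he]
    exact hmax ⟨φ w, map_mem_S F hφ w⟩ hx
  intro hmem
  have hker : F.hyperfocalSubgroup 2 ≤ f.ker.map S.subtype := by
    refine (Subgroup.closure_le _).2 ?_
    rintro _ ⟨P, α, x, hP, -, rfl⟩
    have hφ := autGroup_mem_hom F hP α.2
    refine ⟨(⟨x, hP x.2⟩ : S)⁻¹ * ⟨_, map_mem_S F hφ x⟩, ?_, rfl⟩
    rw [SetLike.mem_coe, MonoidHom.mem_ker, map_mul, map_inv, hf P _ hφ x, inv_mul_cancel]
  obtain ⟨w, hw, he⟩ := hker hmem
  apply hfi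
  obtain ⟨φ, hφ, he₀⟩ := hi₀i
  have h1 := hf _ φ hφ ⟨i₀, Subgroup.mem_zpowers _⟩
  rw [show (⟨φ ⟨i₀, Subgroup.mem_zpowers _⟩, map_mem_S F hφ _⟩ : S) = w from
    Subtype.ext (he₀.trans he.symm), MonoidHom.mem_ker.1 hw] at h1
  exact h1.symm

end Cfsg.Agent.FusionSub.ThompsonTransfer
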